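import Groth.Agent.FEtCat.Lef.Trace

/-!
# Morphisms out of the direct image of a finite etale cover, given on small affine opens
-/

set_option autoImplicit false
set_option backward.isDefEq.respectTransparency false
set_option backward.isDefEq.respectTransparency.types false

universe u

open CategoryTheory CategoryTheory.Limits AlgebraicGeometry Opposite TopologicalSpace

noncomputable section

namespace Groth.Agent.FEtCat.Lef

variable {X Y : Scheme.{u}} (p : Y ⟶ X)

/-- Sections of a module agree if they agree locally. -/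
theorem eq_of_locally (N : X.Modules) {U : X.Opens} (s t : Γ(N, U))
    (h : ∀ x ∈ U, ∃ (W : X.Opens) (hW : W ≤ U), x ∈ W ∧
      N.presheaf.map (homOfLE hW).op s = N.presheaf.map (homOfLE hW).op t) : s = t := by
  choose W hW hxW hs using h
  exact TopCat.Sheaf.eq_of_locally_eq' ⟨N.presheaf, N.isSheaf⟩ (fun x : U => W x.1 x.2) U
    (fun x => homOfLE (hW x.1 x.2)) (fun x hx => Opens.mem_iSup.2 ⟨⟨x, hx⟩, hxW x hx⟩) _ _
    fun x => hs x.1 x.2

theorem res_res (N : X.Modules) {U V W : X.Opens} (h : V ≤ U) (h' : W ≤ V) (s : Γ(N, U)) :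
    N.presheaf.map (homOfLE h').op (N.presheaf.map (homOfLE h).op s) =
      N.presheaf.map (homOfLE (h'.trans h)).op s := by
  rw [← ConcreteCategory.comp_apply, ← Functor.map_comp]
  rfl

theorem resY_resY {U V W : X.Opens} (h : V ≤ U) (h' : W ≤ V) (b : B p U) :
    resY p h' (resY p h b) = resY p (h'.trans h) b :=
  res_res (push p) h h' b

variable [IsFinite p] [Etale p] (N : X.Modules)

/-- Compatible families on good affine opens glue. -/
theorem exists_glue {U : X.Opens} (s : ∀ V : X.Opens, Good p V → V ≤ U → Γ(N, V))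
    (hs : ∀ V (hV : Good p V) (hVU : V ≤ U) W (hW : Good p W) (hWV : W ≤ V),
      N.presheaf.map (homOfLE hWV).op (s V hV hVU) = s W hW (hWV.trans hVU)) :
    ∃! t : Γ(N, U), ∀ V (hV : Good p V) (hVU : V ≤ U), N.presheaf.map (homOfLE hVU).op t = s V hV hVU := by
  let ι := {V : X.Opens // Good p V ∧ V ≤ U}
  obtain ⟨t, ht, hu⟩ := TopCat.Sheaf.existsUnique_gluing' (⟨N.presheaf, N.isSheaf⟩ : TopCat.Sheaf Ab _)
    (fun i : ι => i.1) U (fun i => homOfLE i.2.2) (fun x hx => by
      obtain ⟨V, hxV, hVU, hV⟩ := exists_good p hx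
      exact Opens.mem_iSup.2 ⟨⟨V, hV, hVU⟩, hxV⟩)
    (fun i => s i.1 i.2.1 i.2.2) (fun i j => by
      refine eq_of_locally N _ _ fun x hx => ?_
      obtain ⟨W, hxW, hWle, hW⟩ := exists_good p (U := i.1 ⊓ j.1) hx
      refine ⟨W, hWle, hxW, ?_⟩
      change N.presheaf.map (homOfLE hWle).op (N.presheaf.map (homOfLE inf_le_left).op _) =
        N.presheaf.map (homOfLE hWle).op (N.presheaf.map (homOfLE inf_le_right).op _)
      rw [res_res, res_res, hs _ _ _ W hW, hs _ _ _ W hW])
  exact ⟨t, fun V hV hVU => ht ⟨V, hV, hVU⟩, fun t' ht' => hu t' fun i => ht' i.1 i.2.1 i.2.2⟩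

variable {N}
variable (g : ∀ V : X.Opens, Good p V → (B p V →ₗ[Γ(X, V)] Γ(N, V)))
  (hg : ∀ V (hV : Good p V) W (hW : Good p W) (r : Γ(X, V)) (h : W ≤ V), W = X.basicOpen r →
    ∀ b, N.presheaf.map (homOfLE h).op (g V hV b) = g W hW (resY p h b))
include hg

theorem family_res {V : X.Opens} (hV : Good p V) {W : X.Opens} (hW : Good p W) (h : W ≤ V) (b : B p V) :
    N.presheaf.map (homOfLE h).op (g V hV b) = g W hW (resY p h b) := by
  refine eq_of_locally N _ _ fun x hx => ?_
  obtain ⟨f, f', e, hxf⟩ := exists_basicOpen_le_affine_inter hW.affine hV.affine x ⟨hx, h hx⟩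
  have hle : X.basicOpen f ≤ W := X.basicOpen_le f
  refine ⟨X.basicOpen f, hle, hxf, ?_⟩
  have hD : Good p (X.basicOpen f) := Good.basicOpen p hle f rfl hW
  rw [res_res, hg V hV _ hD f' (hle.trans h) e, hg W hW _ hD f hle rfl, resY_resY]

/-- A compatible family of linear maps is induced by a unique morphism of modules. -/
theorem exists_hom : ∃ φ : push p ⟶ N, ∀ V (hV : Good p V) (b : B p V), φ.app V b = g V hV b := by
  have key : ∀ (U : X.Opens) (b : B p U), ∃! t : Γ(N, U),
      ∀ V (hV : Good p V) (hVU : V ≤ U), N.presheaf.map (homOfLE hVU).op t = g V hV (resY p hVU b) :=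
    fun U b => exists_glue p N (fun V hV hVU => g V hV (resY p hVU b)) fun V hV hVU W hW hWV => by
      rw [family_res p g hg hV hW hWV, resY_resY]
  choose F hF hFu using key
  refine ⟨⟨PresheafOfModules.homMk
    { app := fun U => AddCommGrpCat.ofHom (AddMonoidHom.mk'
        (show Γ(push p, U.unop) → Γ(N, U.unop) from fun b => F U.unop b)
        (fun a b => (hFu U.unop (a + b) _ fun V hV hVU => by
          rw [map_add, hF U.unop a V hV hVU, hF U.unop b V hV hVU, ← map_add, ← map_add]).symm))
      naturality := fun {U V} i => by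
        ext b
        refine (hFu V.unop (resY p i.unop.le b) (N.presheaf.map (homOfLE i.unop.le).op (F U.unop b))
          fun W hW hWV => ?_).symm
        rw [res_res, resY_resY]
        exact hF U.unop b W hW _ }
    (fun U (r : Γ(X, U.unop)) (b : B p U.unop) => ?_)⟩, fun V hV b => ?_⟩
  · refine (hFu U.unop (r • b) (r • F U.unop b) fun V hV hVU => ?_).symm
    rw [Scheme.Modules.map_smul, resY_smul, map_smul, hF U.unop b V hV hVU]
  · refine (hFu V b (g V hV b) fun W hW hWV => family_res p g hg hV hW hWV b).symm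

omit hg in
/-- Morphisms out of the direct image agree if they agree on good opens. -/
theorem hom_ext_good {φ ψ : push p ⟶ N} (h : ∀ V, Good p V → ∀ b : B p V, φ.app V b = ψ.app V b) : φ = ψ := by
  refine Scheme.Modules.hom_ext _ _ fun U => ?_
  ext b
  refine eq_of_locally N _ _ fun x hx => ?_
  obtain ⟨V, hxV, hVU, hV⟩ := exists_good p hx
  refine ⟨V, hVU, hxV, ?_⟩
  exact (NatTrans.naturality_apply φ.mapPresheaf (homOfLE hVU).op b).symm.trans
    ((h V hV _).trans (NatTrans.naturality_apply ψ.mapPresheaf (homOfLE hVU).op b))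

omit hg g in
/-- A morphism commutes with restriction. -/
theorem app_res (φ : push p ⟶ N) {V W : X.Opens} (h : W ≤ V) (b : B p V) :
    N.presheaf.map (homOfLE h).op (φ.app V b) = φ.app W (resY p h b) :=
  (NatTrans.naturality_apply φ.mapPresheaf (homOfLE h).op b).symm

end Groth.Agent.FEtCat.Lef
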