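import Groth.Agent.FEtCat.Lef.Main
import Groth.Agent.QCoh.Pullback
import Groth.Prelude.Def_FSch3

/-!
# Full faithfulness of completion gives the formal Lefschetz comparison
-/

set_option autoImplicit false
set_option backward.isDefEq.respectTransparency false
set_option backward.isDefEq.respectTransparency.types false

universe u

open CategoryTheory CategoryTheory.Limits AlgebraicGeometry Opposite TopologicalSpace

noncomputable section

namespace Groth.Agent.FEtCat.Lef.Completion

variable {X Z Z' : Scheme.{u}}

/-- `f^* O ⟶ O`. -/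
def unitMap (f : Z ⟶ X) : (Scheme.Modules.pullback f).obj (Coh.structureModule X) ⟶ Coh.structureModule Z :=
  ((Scheme.Modules.pullbackPushforwardAdjunction f).homEquiv _ _).symm (ClSub.unitToPush f)

theorem homEquiv_unitMap (f : Z ⟶ X) :
    (Scheme.Modules.pullbackPushforwardAdjunction f).homEquiv _ _ (unitMap f) = ClSub.unitToPush f :=
  Equiv.apply_symm_apply _ _

instance isIso_unitMap (f : Z ⟶ X) : IsIso (unitMap f) := by
  have h : unitMap f = (QCoh.pullbackUnitIso f).hom := rfl
  rw [h]
  infer_instance

/-- Adjunction for a composite. -/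
theorem homEquiv_comp (f : Z' ⟶ Z) (g : Z ⟶ X) {k : Z' ⟶ X} (h : f ≫ g = k) {D : X.Modules} {N : Z'.Modules}
    (m : (Scheme.Modules.pullback f).obj ((Scheme.Modules.pullback g).obj D) ⟶ N) :
    (Scheme.Modules.pullbackPushforwardAdjunction k).homEquiv _ _
      (((Scheme.Modules.pullbackComp f g ≪≫ Scheme.Modules.pullbackCongr h).app D).inv ≫ m) =
    (Scheme.Modules.pullbackPushforwardAdjunction g).homEquiv _ _
        ((Scheme.Modules.pullbackPushforwardAdjunction f).homEquiv _ _ m) ≫
      (Scheme.Modules.pushforwardComp f g).hom.app N ≫ (Scheme.Modules.pushforwardCongr h).hom.app N := by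
  subst h
  have hc : (Scheme.Modules.pushforwardCongr (rfl : f ≫ g = f ≫ g)).hom.app N = 𝟙 _ := by
    refine Scheme.Modules.hom_ext _ _ fun U => ?_
    simp
  have h1 := unit_conjugateEquiv
    ((Scheme.Modules.pullbackPushforwardAdjunction g).comp (Scheme.Modules.pullbackPushforwardAdjunction f))
    (Scheme.Modules.pullbackPushforwardAdjunction (f ≫ g)) (Scheme.Modules.pullbackComp f g).inv D
  rw [Scheme.Modules.conjugateEquiv_pullbackComp_inv] at h1
  rw [hc, Category.comp_id, Adjunction.homEquiv_unit]
  simp only [Scheme.Modules.pullbackCongr, eqToIso_refl, Iso.trans_refl, Iso.app_inv, Functor.map_comp]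
  rw [← reassoc_of% h1]
  simp [Adjunction.comp_unit_app, Adjunction.homEquiv_unit]
  rfl

set_option maxHeartbeats 1600000 in
/-- The comparison maps of two levels. -/
theorem square (f : Z' ⟶ Z) (g : Z ⟶ X) {k : Z' ⟶ X} (h : f ≫ g = k) {D : X.Modules}
    (y : D ⟶ (Scheme.Modules.pushforward g).obj (Coh.structureModule Z))
    (y₀ : D ⟶ (Scheme.Modules.pushforward k).obj (Coh.structureModule Z'))
    (hy : y ≫ (Scheme.Modules.pushforward g).map (ClSub.unitToPush f) ≫
      (Scheme.Modules.pushforwardComp f g).hom.app _ ≫ (Scheme.Modules.pushforwardCongr h).hom.app _ = y₀) :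
    (Scheme.Modules.pullback f).map
        (((Scheme.Modules.pullbackPushforwardAdjunction g).homEquiv _ _).symm y ≫ inv (unitMap g)) ≫
      ((Scheme.Modules.pullbackComp f g ≪≫ Scheme.Modules.pullbackCongr h).app (Coh.structureModule X)).hom =
    ((Scheme.Modules.pullbackComp f g ≪≫ Scheme.Modules.pullbackCongr h).app D).hom ≫
      ((Scheme.Modules.pullbackPushforwardAdjunction k).homEquiv _ _).symm y₀ ≫ inv (unitMap k) := by
  have heO : ((Scheme.Modules.pullbackComp f g ≪≫ Scheme.Modules.pullbackCongr h).app (Coh.structureModule X)).hom ≫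
      unitMap k = (Scheme.Modules.pullback f).map (unitMap g) ≫ unitMap f := by
    rw [← Iso.eq_inv_comp]
    refine ((Scheme.Modules.pullbackPushforwardAdjunction k).homEquiv _ _).injective ?_
    rw [homEquiv_unitMap, homEquiv_comp, Adjunction.homEquiv_naturality_left, homEquiv_unitMap,
      Adjunction.homEquiv_naturality_right, homEquiv_unitMap, Category.assoc]
    exact (unitToPush_comp f g h).symm
  refine (cancel_mono (unitMap k)).1 ?_
  rw [Category.assoc, heO, ← Category.assoc, ← Functor.map_comp, Category.assoc, IsIso.inv_hom_id,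
    Category.comp_id, Category.assoc, Category.assoc, IsIso.inv_hom_id, Category.comp_id, ← Iso.inv_comp_eq]
  refine ((Scheme.Modules.pullbackPushforwardAdjunction k).homEquiv _ _).injective ?_
  rw [homEquiv_comp, Adjunction.homEquiv_naturality_left, homEquiv_unitMap,
    Adjunction.homEquiv_naturality_right, Equiv.apply_symm_apply, Equiv.apply_symm_apply, Category.assoc]
  exact hy

theorem homEquiv_map_unitMap (f : Z ⟶ X) {D : X.Modules} (φ : D ⟶ Coh.structureModule X) :
    (Scheme.Modules.pullbackPushforwardAdjunction f).homEquiv _ _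
      ((Scheme.Modules.pullback f).map φ ≫ unitMap f) = φ ≫ ClSub.unitToPush f := by
  rw [Adjunction.homEquiv_naturality_left, homEquiv_unitMap]

theorem eq_of_map_eq (f : Z ⟶ X) {D : X.Modules} (φ ψ : D ⟶ Coh.structureModule X)
    (h : φ ≫ ClSub.unitToPush f = ψ ≫ ClSub.unitToPush f) :
    (Scheme.Modules.pullback f).map φ = (Scheme.Modules.pullback f).map ψ :=
  (cancel_mono (unitMap f)).1 (((Scheme.Modules.pullbackPushforwardAdjunction f).homEquiv _ _).injective
    ((homEquiv_map_unitMap f φ).trans (h.trans (homEquiv_map_unitMap f ψ).symm)))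

theorem eq_of_map (f : Z ⟶ X) {D : X.Modules} (φ : D ⟶ Coh.structureModule X)
    (y : D ⟶ (Scheme.Modules.pushforward f).obj (Coh.structureModule Z))
    (h : (Scheme.Modules.pullback f).map φ =
      ((Scheme.Modules.pullbackPushforwardAdjunction f).homEquiv _ _).symm y ≫ inv (unitMap f)) :
    φ ≫ ClSub.unitToPush f = y := by
  rw [← homEquiv_map_unitMap f φ, h, Category.assoc, IsIso.inv_hom_id, Category.comp_id, Equiv.apply_symm_apply]

/-- The map of levels given by a morphism to a direct image. -/
irreducible_def level (f : Z ⟶ X) {D : X.Modules}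
    (y : D ⟶ (Scheme.Modules.pushforward f).obj (Coh.structureModule Z)) :
    (Scheme.Modules.pullback f).obj D ⟶ (Scheme.Modules.pullback f).obj (Coh.structureModule X) :=
  ((Scheme.Modules.pullbackPushforwardAdjunction f).homEquiv _ _).symm y ≫ inv (unitMap f)

theorem level_comm (f : Z' ⟶ Z) (g : Z ⟶ X) {k : Z' ⟶ X} (h : f ≫ g = k) {D : X.Modules}
    (y : D ⟶ (Scheme.Modules.pushforward g).obj (Coh.structureModule Z))
    (y₀ : D ⟶ (Scheme.Modules.pushforward k).obj (Coh.structureModule Z'))
    (hy : y ≫ (Scheme.Modules.pushforward g).map (ClSub.unitToPush f) ≫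
      (Scheme.Modules.pushforwardComp f g).hom.app _ ≫ (Scheme.Modules.pushforwardCongr h).hom.app _ = y₀) :
    (Scheme.Modules.pullback f).map (level g y) ≫
      ((Scheme.Modules.pullbackComp f g ≪≫ Scheme.Modules.pullbackCongr h).app (Coh.structureModule X)).hom =
    ((Scheme.Modules.pullbackComp f g ≪≫ Scheme.Modules.pullbackCongr h).app D).hom ≫ level k y₀ := by
  rw [level_def, level_def]
  exact square f g h y y₀ hy

theorem eq_of_level (f : Z ⟶ X) {D : X.Modules} (φ : D ⟶ Coh.structureModule X)
    (y : D ⟶ (Scheme.Modules.pushforward f).obj (Coh.structureModule Z))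
    (h : (Scheme.Modules.pullback f).map φ = level f y) : φ ≫ ClSub.unitToPush f = y :=
  eq_of_map f φ y (by rw [h, level_def])

variable (J : X.IdealSheafData)

theorem complTransIso_eq (n : ℕ) : FSch.complTransIso J n =
    Scheme.Modules.pullbackComp ((FSch.completionAlong X J).ι n) (FSch.completionToX X J (n + 1)) ≪≫
      Scheme.Modules.pullbackCongr (Scheme.IdealSheafData.inclusion_subschemeι (FSch.pow_succ_le X J n)) := rfl

/-- Full faithfulness of completion on a pair `(D, O)` gives the Lefschetz comparison for `D`. -/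
theorem homToFormalBijective (D : X.Modules)
    (h : Function.Bijective fun φ : D ⟶ Coh.structureModule X => FSch.complModMap J φ) :
    _root_.Lef.HomToFormalBijective J D := by
  refine ⟨fun φ ψ hφψ => h.1 (FSch.ModSys.Hom.ext (funext fun n => eq_of_map_eq _ φ ψ (hφψ n))),
    fun y hy => ?_⟩
  obtain ⟨φ, hφ⟩ := h.2 (⟨fun n => level (FSch.completionToX X J n) (y n), fun n => by
      rw [FSch.complMod_e, FSch.complMod_e, complTransIso_eq]
      exact level_comm ((FSch.completionAlong X J).ι n) (FSch.completionToX X J (n + 1)) _ (y (n + 1)) (y n) (hy n)⟩ :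
    FSch.complMod J D ⟶ FSch.complMod J (Coh.structureModule X))
  exact ⟨φ, fun n => eq_of_level _ φ (y n) (congrFun (congrArg FSch.ModSys.Hom.app hφ) n)⟩

end Groth.Agent.FEtCat.Lef.Completion
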