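import Groth.Agent.FEtCat.Lef.Build
import Mathlib.RingTheory.Idempotents

/-!
# Lifting clopen subsets of the special fibre of a finite etale cover to the thickenings
-/

set_option autoImplicit false
set_option backward.isDefEq.respectTransparency false
set_option backward.isDefEq.respectTransparency.types false

universe u

open CategoryTheory CategoryTheory.Limits AlgebraicGeometry Opposite TopologicalSpace

noncomputable section

namespace Groth.Agent.FEtCat.Lef

variable {X Y : Scheme.{u}} (p : Y ⟶ X) (J : X.IdealSheafData) (W0 : Set Y)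

/-- The ideal of the `n`-th thickening on the cover. -/
abbrev K {V : X.Opens} (hV : IsAffineOpen V) (n : ℕ) : Ideal (B p V) :=
  ((J ^ (n + 1)).ideal ⟨V, hV⟩).map (algebraMap Γ(X, V) (B p V))

theorem K_anti {V : X.Opens} (hV : IsAffineOpen V) (n : ℕ) : K p J hV (n + 1) ≤ K p J hV n := by
  refine Ideal.map_mono ?_
  simp only [Scheme.IdealSheafData.ideal_pow, Pi.pow_apply]
  exact Ideal.pow_le_pow_right (Nat.le_succ _)

theorem mem_K_of_idempotent {V : X.Opens} (hV : IsAffineOpen V) {e : B p V} (he : IsIdempotentElem e)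
    (h : e ∈ K p J hV 0) (n : ℕ) : e ∈ K p J hV n := by
  have hK : K p J hV n = K p J hV 0 ^ (n + 1) := by
    simp only [K, ← Ideal.map_pow, Scheme.IdealSheafData.ideal_pow, Pi.pow_apply, zero_add, pow_one]
  rw [hK]
  exact (he.pow_succ_eq n) ▸ Ideal.pow_mem_pow h _

/-- An approximate idempotent cutting out `W0` on the special fibre. -/
structure IsLift {V : X.Opens} (hV : IsAffineOpen V) (n : ℕ) (e : B p V) : Prop where
  sq : e * e - e ∈ K p J hV n
  iff : ∀ y ∈ p ⁻¹ᵁ V, p y ∈ J.support → (y ∈ Y.basicOpen e ↔ y ∈ W0)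

variable [IsAffineHom p]

theorem mem_supp_iff {V : X.Opens} (hV : IsAffineOpen V) (n : ℕ) (q : PrimeSpectrum (B p V)) :
    p ((hV.preimage p).fromSpec q) ∈ J.support ↔ K p J hV n ≤ q.asIdeal := by
  set y := (hV.preimage p).fromSpec q with hy
  have hyV : p y ∈ V := by
    have : y ∈ p ⁻¹ᵁ V := (hV.preimage p).range_fromSpec.le ⟨q, rfl⟩
    exact this
  have h1 : p y ∈ J.support ↔ p y ∈ X.zeroLocus (U := V) ((J ^ (n + 1)).ideal ⟨V, hV⟩) := by
    rw [← Scheme.IdealSheafData.support_pow_succ J n]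
    exact ⟨fun h => ((Scheme.IdealSheafData.coe_support_inter _ ⟨V, hV⟩).le ⟨h, hyV⟩).1,
      fun h => ((Scheme.IdealSheafData.coe_support_inter _ ⟨V, hV⟩).ge ⟨h, hyV⟩).1⟩
  rw [h1, Scheme.mem_zeroLocus_iff, K, Ideal.map_le_iff_le_comap]
  refine forall₂_congr fun f _ => ?_
  rw [Ideal.mem_comap, show (p y ∈ X.basicOpen f) = (y ∈ p ⁻¹ᵁ X.basicOpen f) from rfl,
    Scheme.preimage_basicOpen, hy]
  change ¬ q ∈ (hV.preimage p).fromSpec ⁻¹ᵁ Y.basicOpen (p.app V f) ↔ _
  rw [(hV.preimage p).fromSpec_preimage_basicOpen]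
  exact not_not

theorem mem_basicOpen_iff {V : X.Opens} (hV : IsAffineOpen V) (e : B p V) (q : PrimeSpectrum (B p V)) :
    (hV.preimage p).fromSpec q ∈ Y.basicOpen e ↔ e ∉ q.asIdeal := by
  change q ∈ (hV.preimage p).fromSpec ⁻¹ᵁ Y.basicOpen e ↔ _
  rw [(hV.preimage p).fromSpec_preimage_basicOpen]
  rfl

theorem fromSpec_mem {V : X.Opens} (hV : IsAffineOpen V) (q : PrimeSpectrum (B p V)) :
    (hV.preimage p).fromSpec q ∈ p ⁻¹ᵁ V :=
  (hV.preimage p).range_fromSpec.le ⟨q, rfl⟩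

theorem exists_fromSpec_eq {V : X.Opens} (hV : IsAffineOpen V) {y : Y} (hy : y ∈ p ⁻¹ᵁ V) :
    ∃ q, (hV.preimage p).fromSpec q = y :=
  (hV.preimage p).range_fromSpec.ge hy

variable {W0}

theorem exists_isLift (hW : IsClosed W0) (hW' : IsClosed (p ⁻¹' (J.support : Set X) \ W0))
    {V : X.Opens} (hV : IsAffineOpen V) (n : ℕ) : ∃ e, IsLift p J W0 hV n e := by
  let π := Ideal.Quotient.mk (K p J hV n)
  let ψ : PrimeSpectrum (B p V ⧸ K p J hV n) → Y := fun P => (hV.preimage p).fromSpec (PrimeSpectrum.comap π P)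
  have hψ : Continuous ψ := (hV.preimage p).fromSpec.continuous.comp (PrimeSpectrum.continuous_comap π)
  have hZ : ∀ P, p (ψ P) ∈ J.support := fun P => (mem_supp_iff p J hV n _).2 fun x hx => by
    change π x ∈ P.asIdeal
    rw [Ideal.Quotient.eq_zero_iff_mem.mpr hx]
    exact zero_mem _
  have hcl : IsClopen (ψ ⁻¹' W0) := by
    refine ⟨hW.preimage hψ, ?_⟩
    rw [← isClosed_compl_iff]
    have : (ψ ⁻¹' W0)ᶜ = ψ ⁻¹' (p ⁻¹' (J.support : Set X) \ W0) := by
      ext P
      exact ⟨fun h => ⟨hZ P, h⟩, fun h => h.2⟩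
    rw [this]
    exact hW'.preimage hψ
  obtain ⟨ε, hε, hWε⟩ := PrimeSpectrum.isClopen_iff.mp hcl
  obtain ⟨e, rfl⟩ := Ideal.Quotient.mk_surjective ε
  refine ⟨e, Ideal.Quotient.eq.mp ((map_mul π e e).trans hε.eq), fun y hy hys => ?_⟩
  obtain ⟨q, rfl⟩ := exists_fromSpec_eq p hV hy
  rw [mem_basicOpen_iff p hV e q]
  have hKq := (mem_supp_iff p J hV n q).1 hys
  obtain ⟨P, hP⟩ : q ∈ Set.range (PrimeSpectrum.comap π) := by
    rw [range_comap_of_surjective _ _ Ideal.Quotient.mk_surjective, Ideal.mk_ker]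
    exact hKq
  have h2 : (hV.preimage p).fromSpec q ∈ W0 ↔ π e ∉ P.asIdeal := by
    rw [← hP]
    exact ⟨fun h => hWε.le h, fun h => hWε.ge h⟩
  rw [h2, ← hP]
  rfl

theorem isLift_unique {V : X.Opens} (hV : IsAffineOpen V) {n : ℕ} {e e' : B p V}
    (he : IsLift p J W0 hV n e) (he' : IsLift p J W0 hV n e') : e - e' ∈ K p J hV n := by
  let π := Ideal.Quotient.mk (K p J hV n)
  have hidem : ∀ {a : B p V}, IsLift p J W0 hV n a → IsIdempotentElem (π a) := fun ha =>
    (map_mul π _ _).symm.trans (Ideal.Quotient.eq.mpr ha.sq)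
  refine Ideal.Quotient.eq.mp (PrimeSpectrum.basicOpen_injOn_isIdempotentElem (hidem he) (hidem he') ?_)
  refine TopologicalSpace.Opens.ext (Set.ext fun P => ?_)
  let q := PrimeSpectrum.comap π P
  have hq : K p J hV n ≤ q.asIdeal := fun x hx => by
    change π x ∈ P.asIdeal
    rw [Ideal.Quotient.eq_zero_iff_mem.mpr hx]
    exact zero_mem _
  have hs := (mem_supp_iff p J hV n q).2 hq
  have h1 := he.iff _ (fromSpec_mem p hV q) hs
  have h2 := he'.iff _ (fromSpec_mem p hV q) hs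
  rw [mem_basicOpen_iff p hV e q] at h1
  rw [mem_basicOpen_iff p hV e' q] at h2
  exact h1.trans h2.symm

omit [IsAffineHom p] in
theorem K_res {V W : X.Opens} (hV : IsAffineOpen V) (hW : IsAffineOpen W) (h : W ≤ V) {n : ℕ} {b : B p V}
    (hb : b ∈ K p J hV n) : resY p h b ∈ K p J hW n := by
  have : (K p J hV n).map (resY p h) = K p J hW n := by
    rw [K, Ideal.map_map, show (resY p h).comp (algebraMap Γ(X, V) (B p V)) =
      (algebraMap Γ(X, W) (B p W)).comp (resX h) from RingHom.ext fun r => resY_algebraMap p h r,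
      ← Ideal.map_map]
    congr 1
    exact Scheme.IdealSheafData.map_ideal (U := ⟨W, hW⟩) (V := ⟨V, hV⟩) _ h
  exact this ▸ Ideal.mem_map_of_mem _ hb

omit [IsAffineHom p] in
theorem IsLift.res {V W : X.Opens} {hV : IsAffineOpen V} {n : ℕ} {e : B p V} (he : IsLift p J W0 hV n e)
    (hW : IsAffineOpen W) (h : W ≤ V) : IsLift p J W0 hW n (resY p h e) := by
  refine ⟨?_, fun y hy hys => ?_⟩
  · rw [← map_mul, ← map_sub]
    exact K_res p J hV hW h he.sq
  · rw [Scheme.basicOpen_res, ← he.iff y (h hy) hys]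
    exact ⟨fun hm => hm.2, fun hm => ⟨hy, hm⟩⟩

omit [IsAffineHom p] in
theorem IsLift.anti {V : X.Opens} {hV : IsAffineOpen V} {n : ℕ} {e : B p V}
    (he : IsLift p J W0 hV (n + 1) e) : IsLift p J W0 hV n e :=
  ⟨K_anti p J hV n he.sq, he.iff⟩

end Groth.Agent.FEtCat.Lef
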