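import Groth.Agent.FEtCat.Lef.Lift
import Groth.Agent.FEtCat.Full
import Groth.Prelude.Def_Lef

/-!
# Clopen subsets of a finite etale cover from those of its special fibre, by the Lefschetz condition
-/

set_option autoImplicit false
set_option backward.isDefEq.respectTransparency false
set_option backward.isDefEq.respectTransparency.types false

universe u

open CategoryTheory CategoryTheory.Limits AlgebraicGeometry Opposite TopologicalSpace

noncomputable section

namespace Groth.Agent.FEtCat.Lef

variable {X : Scheme.{u}} (J : X.IdealSheafData)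

/-- `O_X → O_X / I` on sections. -/
theorem toSub_eq_zero_iff (I : X.IdealSheafData) {V : X.Opens} (hV : IsAffineOpen V) (t : Γ(X, V)) :
    (ClSub.toSubscheme I).app V t = 0 ↔ t ∈ I.ideal ⟨V, hV⟩ := by
  rw [← Scheme.IdealSheafData.ker_subschemeι_app I ⟨V, hV⟩]
  rfl

theorem unitToPush_comp {Z Z' : Scheme.{u}} (inc : Z' ⟶ Z) (i : Z ⟶ X) {i' : Z' ⟶ X} (h : inc ≫ i = i') :
    ClSub.unitToPush i ≫ (Scheme.Modules.pushforward i).map (ClSub.unitToPush inc) ≫
      (Scheme.Modules.pushforwardComp inc i).hom.app _ ≫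
        (Scheme.Modules.pushforwardCongr h).hom.app _ = ClSub.unitToPush i' := by
  subst h
  refine Scheme.Modules.hom_ext _ _ fun U => ?_
  ext t
  simp
  rfl

theorem toSub_comp_quotMap {I I' : X.IdealSheafData} (h : I ≤ I') :
    ClSub.toSubscheme I ≫ _root_.Lef.quotMap h = ClSub.toSubscheme I' :=
  unitToPush_comp _ _ (Scheme.IdealSheafData.inclusion_subschemeι h)

variable {Y : Scheme.{u}} (p : Y ⟶ X) [IsFinite p] [Etale p]

/-- The linear map `b ↦ tr (a b)` followed by the projection to a quotient. -/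
def traceMod {V : X.Opens} {N : X.Modules} (π : Coh.structureModule X ⟶ N) (a : B p V) :
    B p V →ₗ[Γ(X, V)] Γ(N, V) where
  toFun b := π.app V (Algebra.trace Γ(X, V) (B p V) (a * b))
  map_add' b c := by rw [mul_add, map_add]; exact map_add (π.app V).hom _ _
  map_smul' r b := by
    rw [mul_smul_comm, map_smul, RingHom.id_apply]
    exact Scheme.Modules.Hom.app_smul π r _

theorem traceMod_res {N : X.Modules} (π : Coh.structureModule X ⟶ N) {V : X.Opens} (hV : Good p V)
    {W : X.Opens} (r : Γ(X, V)) (h : W ≤ V) (e : W = X.basicOpen r) (a b : B p V) :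
    N.presheaf.map (homOfLE h).op (traceMod p π a b) = traceMod p π (resY p h a) (resY p h b) := by
  change _ = π.app W _
  rw [← map_mul, ← trace_res p h r e hV]
  exact (NatTrans.naturality_apply π.mapPresheaf (homOfLE h).op _).symm

theorem app_comp {N N' : X.Modules} {D : X.Modules} (f : D ⟶ N) (π : N ⟶ N') (V : X.Opens) (b : Γ(D, V)) :
    (f ≫ π).app V b = π.app V (f.app V b) := rfl

section Main

variable (hinj : ∀ φ : push p ⟶ Coh.structureModule X,
    (∀ n : ℕ, φ ≫ ClSub.toSubscheme (J ^ (n + 1)) = 0) → φ = 0)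
include hinj

/-- A compatible family of sections which vanishes on all thickenings is zero. -/
theorem eq_zero_of_mem (c : ∀ V, Good p V → B p V)
    (hc : ∀ V (hV : Good p V) W (hW : Good p W) (r : Γ(X, V)) (h : W ≤ V), W = X.basicOpen r →
      resY p h (c V hV) = c W hW)
    (hmem : ∀ V (hV : Good p V) n, c V hV ∈ K p J hV.affine n) {V : X.Opens} (hV : Good p V) :
    c V hV = 0 := by
  obtain ⟨ψ, hψ⟩ := exists_hom p (N := Coh.structureModule X) (fun V hV => traceMod p (𝟙 _) (c V hV))
    fun V hV W hW r h e b => by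
      rw [traceMod_res p _ hV r h e, hc V hV W hW r h e]
  have h0 : ψ = 0 := hinj ψ fun n => hom_ext_good p fun W hW b => by
    rw [app_comp, hψ W hW]
    exact (toSub_eq_zero_iff _ hW.affine _).2 (trace_mem_of_mem_map p (hmem W hW n) b)
  refine hV.eq_zero_of_trace p fun b => ?_
  have := hψ V hV b
  rw [h0] at this
  exact this.symm

/-- A clopen subset of the cover avoiding the special fibre is empty. -/
theorem clopen_eq_empty (W : Set Y) (hW : IsClopen W) (hempty : W ∩ p ⁻¹' (J.support : Set X) = ∅) :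
    W = ∅ := by
  have hex : ∀ V, Good p V → ∃ e : B p V, IsIdempotentElem e ∧
      ∀ y ∈ p ⁻¹ᵁ V, (y ∈ W ↔ y ∈ Y.basicOpen e) := fun V hV => by
    obtain ⟨e, he, hWe⟩ := PrimeSpectrum.isClopen_iff.mp (hW.preimage (hV.affine.preimage p).fromSpec.continuous)
    refine ⟨e, he, fun y hy => ?_⟩
    obtain ⟨q, rfl⟩ := exists_fromSpec_eq p hV.affine hy
    rw [mem_basicOpen_iff p hV.affine e q]
    exact ⟨fun h => hWe.le h, fun h => hWe.ge h⟩
  choose e he hWe using hex
  have hc : ∀ V (hV : Good p V) V' (hV' : Good p V') (r : Γ(X, V)) (h : V' ≤ V), V' = X.basicOpen r →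
      resY p h (e V hV) = e V' hV' := fun V hV V' hV' r h _ => by
    refine PrimeSpectrum.basicOpen_injOn_isIdempotentElem ((he V hV).map (resY p h)) (he V' hV')
      (TopologicalSpace.Opens.ext (Set.ext fun q => ?_))
    have hy := fromSpec_mem p hV'.affine q
    have h1 := hWe V hV _ (h hy)
    have h2 := hWe V' hV' _ hy
    rw [mem_basicOpen_iff p hV'.affine _ q] at h2
    have h3 : (hV'.affine.preimage p).fromSpec q ∈ Y.basicOpen (resY p h (e V hV)) ↔ resY p h (e V hV) ∉ q.asIdeal :=
      mem_basicOpen_iff p hV'.affine _ q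
    rw [Scheme.basicOpen_res] at h3
    exact (h3.symm.trans ⟨fun hm => hm.2, fun hm => ⟨hy, hm⟩⟩).trans (h1.symm.trans h2)
  have hmem : ∀ V (hV : Good p V) n, e V hV ∈ K p J hV.affine n := fun V hV =>
    mem_K_of_idempotent p J hV.affine (he V hV) (Ideal.Quotient.eq_zero_iff_mem.mp (by
      refine ((he V hV).map (Ideal.Quotient.mk _)).eq_zero_of_isNilpotent ?_
      rw [← PrimeSpectrum.basicOpen_eq_bot_iff]
      refine TopologicalSpace.Opens.ext (Set.eq_empty_of_forall_notMem fun P hP => ?_)
      let q := PrimeSpectrum.comap (Ideal.Quotient.mk (K p J hV.affine 0)) P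
      have hs := (mem_supp_iff p J hV.affine 0 q).2 fun x hx => by
        change Ideal.Quotient.mk _ x ∈ P.asIdeal
        rw [Ideal.Quotient.eq_zero_iff_mem.mpr hx]
        exact zero_mem _
      exact Set.notMem_empty _ (hempty.le ⟨(hWe V hV _ (fromSpec_mem p hV.affine q)).2
        ((mem_basicOpen_iff p hV.affine _ q).2 hP), hs⟩)))
  refine Set.eq_empty_of_forall_notMem fun y hy => ?_
  obtain ⟨V, hyV, -, hV⟩ := exists_good p (U := ⊤) (x := p y) trivial
  have h := (hWe V hV y hyV).1 hy
  rw [eq_zero_of_mem J p hinj e hc hmem hV, Scheme.basicOpen_zero] at h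
  exact h

variable (hsurj : ∀ y : ∀ n : ℕ, push p ⟶ ClSub.quotMod (J ^ (n + 1)), _root_.Lef.IsFormalHom J (push p) y →
    ∃ φ : push p ⟶ Coh.structureModule X, ∀ n : ℕ, φ ≫ ClSub.toSubscheme (J ^ (n + 1)) = y n)
include hsurj

/-- A clopen subset of the special fibre comes from a clopen subset of the cover. -/
theorem exists_clopen (W0 : Set Y) (hsub : W0 ⊆ p ⁻¹' (J.support : Set X)) (hW : IsClosed W0)
    (hW' : IsClosed (p ⁻¹' (J.support : Set X) \ W0)) :
    ∃ W : Set Y, IsClopen W ∧ W ∩ p ⁻¹' (J.support : Set X) = W0 := by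
  choose e he using fun V (hV : Good p V) n => exists_isLift p J hW hW' hV.affine n
  have hy : ∀ n, ∃ y : push p ⟶ ClSub.quotMod (J ^ (n + 1)), ∀ V (hV : Good p V) (b : B p V),
      y.app V b = traceMod p (ClSub.toSubscheme (J ^ (n + 1))) (e V hV n) b := fun n =>
    exists_hom p (fun V hV => traceMod p _ (e V hV n)) fun V hV W hW r h hr b => by
      rw [traceMod_res p _ hV r h hr]
      have h1 := isLift_unique p J hW.affine ((he V hV n).res p J hW.affine h) (he W hW n)
      have h2 := (toSub_eq_zero_iff _ hW.affine _).2 (trace_mem_of_mem_map p h1 (resY p h b))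
      rw [sub_mul, map_sub, map_sub, sub_eq_zero] at h2
      exact h2
  choose y hy using hy
  have hformal : _root_.Lef.IsFormalHom J (push p) y := fun n => hom_ext_good p fun V hV b => by
    rw [app_comp, hy, hy]
    change (_root_.Lef.quotMap (_root_.Lef.pow_succ_le J n)).app V ((ClSub.toSubscheme _).app V _) = _
    rw [← app_comp, toSub_comp_quotMap]
    have h1 := isLift_unique p J hV.affine (he V hV (n + 1)).anti (he V hV n)
    have h2 := (toSub_eq_zero_iff _ hV.affine _).2 (trace_mem_of_mem_map p h1 b)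
    rw [sub_mul, map_sub, map_sub, sub_eq_zero] at h2
    exact h2
  obtain ⟨φ, hφ⟩ := hsurj y hformal
  let L : ∀ V, B p V →ₗ[Γ(X, V)] Γ(X, V) := fun V =>
    { toFun := fun b => φ.app V b
      map_add' := fun b c => map_add (φ.app V).hom b c
      map_smul' := fun r b => Scheme.Modules.Hom.app_smul φ r b }
  choose a ha using fun V (hV : Good p V) => hV.exists_trace_eq p (L V)
  have hcompat : ∀ V (hV : Good p V) W (hW : Good p W) (r : Γ(X, V)) (h : W ≤ V), W = X.basicOpen r →
      resY p h (a V hV) = a W hW := fun V hV W hW r h hr => by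
    refine (hW.bijective_traceForm p).1 (ext_loc p hV.affine h r hr fun b => ?_)
    rw [Algebra.traceForm_apply, Algebra.traceForm_apply, ← map_mul, ← trace_res p h r hr hV, ha V hV,
      ha W hW]
    exact app_res p φ h b
  have hae : ∀ V (hV : Good p V) n, a V hV - e V hV n ∈ K p J hV.affine n := fun V hV n =>
    hV.mem_map_of_trace p fun b => by
      rw [sub_mul, map_sub, ha V hV]
      refine (toSub_eq_zero_iff _ hV.affine _).1 ?_
      refine (map_sub ((ClSub.toSubscheme (J ^ (n + 1))).app V).hom _ _).trans (sub_eq_zero.mpr ?_)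
      exact (app_comp φ (ClSub.toSubscheme (J ^ (n + 1))) V b).symm.trans
        ((congrArg (fun f : push p ⟶ ClSub.quotMod (J ^ (n + 1)) => Scheme.Modules.Hom.app f V b) (hφ n)).trans (hy n V hV b))
  have hidem : ∀ V (hV : Good p V), a V hV * a V hV - a V hV = 0 := fun V hV =>
    eq_zero_of_mem J p hinj (fun V hV => a V hV * a V hV - a V hV)
      (fun V hV W hW r h hr => by rw [map_sub, map_mul, hcompat V hV W hW r h hr])
      (fun V hV n => by
        have : a V hV * a V hV - a V hV =
            (a V hV - e V hV n) * (a V hV + e V hV n - 1) + (e V hV n * e V hV n - e V hV n) := by ring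
        rw [this]
        exact add_mem (Ideal.mul_mem_right _ _ (hae V hV n)) (he V hV n).sq) hV
  obtain ⟨t, ht, -⟩ := exists_glue p (push p) (U := ⊤) (fun V hV _ => a V hV)
    fun V hV _ W hW hWV => by
      refine eq_of_locally (push p) _ _ fun x hx => ?_
      obtain ⟨f, f', hff, hxf⟩ := exists_basicOpen_le_affine_inter hW.affine hV.affine x ⟨hx, hWV hx⟩
      have hD : Good p (X.basicOpen f) := Good.basicOpen p (X.basicOpen_le f) f rfl hW
      refine ⟨X.basicOpen f, X.basicOpen_le f, hxf, ?_⟩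
      rw [res_res]
      exact (hcompat V hV _ hD f' ((X.basicOpen_le f).trans hWV) hff).trans
        (hcompat W hW _ hD f (X.basicOpen_le f) rfl).symm
  let t' : B p ⊤ := t
  have ht' : ∀ V (hV : Good p V), resY p le_top t' = a V hV := fun V hV => ht V hV le_top
  have hmem : ∀ V (hV : Good p V), ∀ y ∈ p ⁻¹ᵁ V, (y ∈ Y.basicOpen t' ↔ y ∈ Y.basicOpen (a V hV)) :=
    fun V hV y hy => by
      rw [← ht' V hV, Scheme.basicOpen_res]
      exact ⟨fun hm => ⟨hy, hm⟩, fun hm => hm.2⟩
  refine ⟨(Y.basicOpen t' : Set Y), ⟨?_, (Y.basicOpen t').isOpen⟩, ?_⟩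
  · rw [← isOpen_compl_iff, isOpen_iff_forall_mem_open]
    intro y hy
    obtain ⟨V, hyV, -, hV⟩ := exists_good p (U := ⊤) (x := p y) trivial
    obtain ⟨q, hq⟩ := exists_fromSpec_eq p hV.affine (y := y) hyV
    refine ⟨(Y.basicOpen (1 - a V hV) : Set Y), fun z hz hzt => ?_, (Y.basicOpen _).isOpen, ?_⟩
    · have hzV : z ∈ p ⁻¹ᵁ V := Y.basicOpen_le _ hz
      have h0 : z ∈ Y.basicOpen ((1 - a V hV) * a V hV) := by
        rw [Scheme.basicOpen_mul]
        exact ⟨hz, (hmem V hV z hzV).1 hzt⟩
      rw [show (1 - a V hV) * a V hV = 0 by linear_combination -(hidem V hV), Scheme.basicOpen_zero] at h0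
      exact h0
    · subst hq
      rw [SetLike.mem_coe, mem_basicOpen_iff p hV.affine _ q]
      intro h1
      have h2 : a V hV ∈ q.asIdeal := by
        by_contra h3
        exact hy ((hmem V hV _ hyV).2 ((mem_basicOpen_iff p hV.affine _ q).2 h3))
      have := q.asIdeal.add_mem h1 h2
      rw [sub_add_cancel] at this
      exact q.isPrime.ne_top ((Ideal.eq_top_iff_one _).mpr this)
  · ext y
    obtain ⟨V, hyV, -, hV⟩ := exists_good p (U := ⊤) (x := p y) trivial
    obtain ⟨q, rfl⟩ := exists_fromSpec_eq p hV.affine (y := y) hyV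
    by_cases hs : p ((hV.affine.preimage p).fromSpec q) ∈ J.support
    · rw [Set.mem_inter_iff, SetLike.mem_coe, hmem V hV _ hyV, ← (he V hV 0).iff _ hyV hs,
        mem_basicOpen_iff p hV.affine _ q, mem_basicOpen_iff p hV.affine _ q]
      have hd := (mem_supp_iff p J hV.affine 0 q).1 hs (hae V hV 0)
      exact ⟨fun ⟨h1, _⟩ h2 => h1 (by simpa using q.asIdeal.add_mem hd h2),
        fun h1 => ⟨fun h2 => h1 (by simpa using q.asIdeal.sub_mem h2 hd), hs⟩⟩
    · exact ⟨fun h => absurd h.2 hs, fun h => absurd (hsub h) hs⟩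

end Main

/-- Full faithfulness of the restriction to a closed subscheme from the Lefschetz condition. -/
theorem full_faithful (h : ∀ Z : FEt.Cat X, _root_.Lef.HomToFormalBijective J
      ((Scheme.Modules.pushforward Z.hom).obj (Coh.structureModule Z.left))) :
    (FEt.restrict J.subschemeι).Full ∧ (FEt.restrict J.subschemeι).Faithful := by
  have hinj : ∀ (Z : FEt.Cat X) (φ : push Z.hom ⟶ Coh.structureModule X),
      (∀ n : ℕ, φ ≫ ClSub.toSubscheme (J ^ (n + 1)) = 0) → φ = 0 := fun Z φ hφ =>
    (h Z).1 φ 0 fun n => (hφ n).trans (zero_comp).symm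
  have hrange : ∀ Z : FEt.Cat X,
      Set.range (pullback.fst Z.hom J.subschemeι) = Z.hom ⁻¹' (J.support : Set X) := fun Z => by
    rw [Scheme.Pullback.range_fst, Scheme.IdealSheafData.range_subschemeι]
  refine Full.full_faithful _ (fun Z W hW hp => ?_) fun Z W' hW' => ?_
  · have : IsFinite Z.hom := Z.prop.1
    have : Etale Z.hom := Z.prop.2
    refine clopen_eq_empty J Z.hom (hinj Z) W hW (Set.eq_empty_of_forall_notMem fun z ⟨hz, hzs⟩ => ?_)
    obtain ⟨w, rfl⟩ := (hrange Z).ge hzs
    exact Set.notMem_empty w (hp ▸ hz)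
  · have : IsFinite Z.hom := Z.prop.1
    have : Etale Z.hom := Z.prop.2
    have hcl : Topology.IsClosedEmbedding (pullback.fst Z.hom J.subschemeι) :=
      (pullback.fst Z.hom J.subschemeι).isClosedEmbedding
    have hdiff : Z.hom ⁻¹' (J.support : Set X) \ (pullback.fst Z.hom J.subschemeι '' W') =
        pullback.fst Z.hom J.subschemeι '' W'ᶜ := by
      rw [← hrange Z, Set.image_compl_eq_range_sdiff_image hcl.injective]
    obtain ⟨W, hW, hWW⟩ := exists_clopen J Z.hom (hinj Z) ((h Z).2) (pullback.fst Z.hom J.subschemeι '' W')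
      (hrange Z ▸ Set.image_subset_range _ _) (hcl.isClosedMap _ hW'.1)
      (hdiff ▸ hcl.isClosedMap _ hW'.compl.1)
    refine ⟨W, hW, Set.ext fun w => ?_⟩
    have := Set.ext_iff.mp hWW (pullback.fst Z.hom J.subschemeι w)
    rw [hcl.injective.mem_set_image] at this
    exact ⟨fun hw => this.1 ⟨hw, (hrange Z).le ⟨w, rfl⟩⟩, fun hw => (this.2 hw).1⟩

end Groth.Agent.FEtCat.Lef
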