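import Groth.Agent.FEtCat.Lef.Main
import Groth.Agent.S2946
import Mathlib.AlgebraicGeometry.QuasiAffine

/-!
# The Lefschetz condition for the direct image of a finite etale cover of a quasi-affine scheme
-/

set_option autoImplicit false
set_option backward.isDefEq.respectTransparency false
set_option backward.isDefEq.respectTransparency.types false

universe u v

open CategoryTheory CategoryTheory.Limits AlgebraicGeometry Opposite TopologicalSpace
open Groth.Agent.Props.GenLocus Groth.Agent.QCoh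

noncomputable section

namespace Groth.Agent.FEtCat.Lef.QuasiAffine

variable {X : Scheme.{u}} [X.IsQuasiAffine] {Y : Scheme.{u}} (p : Y ⟶ X) [IsFinite p]

theorem isLocalization_resX (f : Γ(X, ⊤)) :
    letI := (resX (le_top : X.basicOpen f ≤ ⊤)).toAlgebra; IsLocalization.Away f Γ(X, X.basicOpen f) :=
  isLocalization_basicOpen_of_qcqs CompactSpace.isCompact_univ isQuasiSeparated_univ f

theorem isLocalization_resY (f : Γ(X, ⊤)) :
    letI := (resY p (le_top : X.basicOpen f ≤ ⊤)).toAlgebra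
    IsLocalization.Away (algebraMap Γ(X, ⊤) (B p ⊤) f) (B p (X.basicOpen f)) := by
  have : CompactSpace Y := QuasiCompact.compactSpace_of_compactSpace p
  have : QuasiSeparatedSpace Y := quasiSeparatedSpace_of_quasiSeparated p
  have key : ∀ (W : Y.Opens) (g : Γ(Y, ⊤)) (h : W ≤ ⊤), W = Y.basicOpen g →
      letI := (Y.presheaf.map (homOfLE h).op).hom.toAlgebra; IsLocalization.Away g Γ(Y, W) := by
    intro W g h hW
    subst hW
    exact isLocalization_basicOpen_of_qcqs CompactSpace.isCompact_univ isQuasiSeparated_univ g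
  exact key _ _ _ (Scheme.preimage_basicOpen p f)

/-- Linear maps out of the sections over a basic open are determined on global sections. -/
theorem ext_top {f : Γ(X, ⊤)} {N : Type v} [AddCommGroup N] [Module Γ(X, X.basicOpen f) N]
    {φ ψ : B p (X.basicOpen f) →ₗ[Γ(X, X.basicOpen f)] N}
    (h : ∀ b, φ (resY p le_top b) = ψ (resY p le_top b)) : φ = ψ := by
  refine LinearMap.ext fun c => ?_
  let := (resY p (le_top : X.basicOpen f ≤ ⊤)).toAlgebra
  have := isLocalization_resY p f
  obtain ⟨k, b, hb⟩ := IsLocalization.Away.surj (algebraMap Γ(X, ⊤) (B p ⊤) f) c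
  have hu : IsUnit (resX (le_top : X.basicOpen f ≤ ⊤) f ^ k) := by
    let := (resX (le_top : X.basicOpen f ≤ ⊤)).toAlgebra
    have := isLocalization_resX f
    exact (IsLocalization.Away.algebraMap_isUnit f).pow k
  change c * resY p _ _ ^ k = resY p _ b at hb
  rw [resY_algebraMap, ← map_pow, mul_comm, ← Algebra.smul_def] at hb
  have := h b
  rw [← hb, map_smul, map_smul] at this
  exact hu.smul_left_cancel.mp this

/-- A linear form on global sections extends to the basic opens. -/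
theorem exists_extend (f : Γ(X, ⊤)) (L : B p ⊤ →ₗ[Γ(X, ⊤)] Γ(X, ⊤)) :
    ∃ l : B p (X.basicOpen f) →ₗ[Γ(X, X.basicOpen f)] Γ(X, X.basicOpen f),
      ∀ b, l (resY p le_top b) = resX le_top (L b) := by
  have h : X.basicOpen f ≤ ⊤ := le_top
  let := (resX h).toAlgebra
  let := (resY p h).toAlgebra
  let := ((resY p h).comp (algebraMap Γ(X, ⊤) (B p ⊤))).toAlgebra
  have : IsScalarTower Γ(X, ⊤) (B p ⊤) (B p (X.basicOpen f)) := .of_algebraMap_eq' rfl
  have : IsScalarTower Γ(X, ⊤) Γ(X, X.basicOpen f) (B p (X.basicOpen f)) :=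
    .of_algebraMap_eq fun r => resY_algebraMap p h r
  have := isLocalization_resX f
  have hl := isLocalization_resY p f
  have : IsLocalization (Algebra.algebraMapSubmonoid (B p ⊤) (Submonoid.powers f)) (B p (X.basicOpen f)) := by
    rw [Algebra.algebraMapSubmonoid, Submonoid.map_powers]
    exact hl
  let ρ : B p ⊤ →ₗ[Γ(X, ⊤)] B p (X.basicOpen f) :=
    (IsScalarTower.toAlgHom Γ(X, ⊤) (B p ⊤) (B p (X.basicOpen f))).toLinearMap
  have hρ : IsLocalizedModule (Submonoid.powers f) ρ := isLocalizedModule_iff_isLocalization.mpr this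
  let g : B p ⊤ →ₗ[Γ(X, ⊤)] Γ(X, X.basicOpen f) := (Algebra.linearMap Γ(X, ⊤) Γ(X, X.basicOpen f)) ∘ₗ L
  have hunit : ∀ x : Submonoid.powers f, IsUnit (algebraMap Γ(X, ⊤) (Module.End Γ(X, ⊤) Γ(X, X.basicOpen f)) x) :=
    IsLocalizedModule.map_units (Algebra.linearMap Γ(X, ⊤) Γ(X, X.basicOpen f))
  refine ⟨(IsLocalizedModule.lift (Submonoid.powers f) ρ g hunit).extendScalarsOfIsLocalization
    (Submonoid.powers f) Γ(X, X.basicOpen f), fun b => ?_⟩
  exact IsLocalizedModule.lift_apply (Submonoid.powers f) ρ g hunit b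

variable [Etale p]

theorem exists_good_basic {U : X.Opens} {x : X} (hx : x ∈ U) :
    ∃ f : Γ(X, ⊤), x ∈ X.basicOpen f ∧ X.basicOpen f ≤ U ∧ Good p (X.basicOpen f) := by
  obtain ⟨V, hxV, hVU, hV⟩ := exists_good p hx
  obtain ⟨_, ⟨_, ⟨f, -, rfl⟩, rfl⟩, hxf, hfV⟩ :=
    (Scheme.IsQuasiAffine.isBasis_basicOpen X).exists_subset_of_mem_open hxV V.2
  have hle : X.basicOpen f ≤ V := hfV
  refine ⟨f, hxf, hle.trans hVU, Good.basicOpen p hle (resX le_top f) ?_ hV⟩
  rw [Scheme.basicOpen_res]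
  exact (inf_eq_right.mpr hle).symm

omit [X.IsQuasiAffine] in
/-- Linearity of a morphism on sections. -/
def appLin {N : X.Modules} (φ : push p ⟶ N) (V : X.Opens) : B p V →ₗ[Γ(X, V)] Γ(N, V) where
  toFun b := φ.app V b
  map_add' b c := map_add (φ.app V).hom b c
  map_smul' r b := Scheme.Modules.Hom.app_smul φ r b

theorem hom_ext_global {N : X.Modules} {φ ψ : push p ⟶ N}
    (h : ∀ b : B p ⊤, φ.app ⊤ b = ψ.app ⊤ b) : φ = ψ := by
  refine hom_ext_good p fun V hV b => ?_
  refine eq_of_locally N _ _ fun x hx => ?_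
  obtain ⟨f, hxf, hfV, hD⟩ := exists_good_basic p hx
  refine ⟨X.basicOpen f, hfV, hxf, ?_⟩
  rw [app_res p φ, app_res p ψ]
  refine LinearMap.congr_fun (ext_top p (φ := appLin p φ _) (ψ := appLin p ψ _) fun c => ?_) _
  change φ.app _ _ = ψ.app _ _
  rw [← app_res p φ, ← app_res p ψ, h c]

theorem homToFormalBijective_push (J : X.IdealSheafData)
    (h : _root_.Lef.HomToFormalBijective J (Coh.structureModule X)) :
    _root_.Lef.HomToFormalBijective J (push p) := by
  have hsep : ∀ a b : Γ(X, ⊤), (∀ n, (ClSub.toSubscheme (J ^ (n + 1))).app ⊤ a =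
      (ClSub.toSubscheme (J ^ (n + 1))).app ⊤ b) → a = b := fun a b hab => S2946.sep_of_bijective J h a b hab
  refine ⟨fun φ ψ hφψ => hom_ext_global p fun b => hsep _ _ fun n => ?_, fun y hy => ?_⟩
  · exact congrArg (fun k : push p ⟶ ClSub.quotMod (J ^ (n + 1)) => Scheme.Modules.Hom.app k ⊤ b) (hφψ n)
  have hex : ∀ b : B p ⊤, ∃ t : Γ(X, ⊤), ∀ n, (ClSub.toSubscheme (J ^ (n + 1))).app ⊤ t = (y n).app ⊤ b := fun b => by
    obtain ⟨φ, hφ⟩ := h.2 (fun n => homOfSec (L := ClSub.quotMod (J ^ (n + 1))) ((y n).app ⊤ b)) fun n => by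
      refine S2946.hom_ext_one _ _ ?_
      rw [Scheme.Modules.Hom.comp_app, ConcreteCategory.comp_apply, S2946.app_one_homOfSec,
        S2946.app_one_homOfSec, ← hy n]
      rfl
    refine ⟨φ.app ⊤ (1 : Γ(X, ⊤)), fun n => ?_⟩
    have := congrArg (fun k : Coh.structureModule X ⟶ ClSub.quotMod (J ^ (n + 1)) =>
      Scheme.Modules.Hom.app k ⊤ (1 : Γ(X, ⊤))) (hφ n)
    simp only [Scheme.Modules.Hom.comp_app, ConcreteCategory.comp_apply, S2946.app_one_homOfSec] at this
    exact this
  choose t ht using hex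
  let L : B p ⊤ →ₗ[Γ(X, ⊤)] Γ(X, ⊤) :=
    { toFun := t
      map_add' := fun a b => hsep _ _ fun n => by
        rw [ht]
        exact ((map_add ((y n).app ⊤).hom a b).trans (congrArg₂ (· + ·) (ht a n).symm (ht b n).symm)).trans
          (map_add ((ClSub.toSubscheme (J ^ (n + 1))).app ⊤).hom _ _).symm
      map_smul' := fun r b => hsep _ _ fun n => by
        rw [ht, RingHom.id_apply]
        exact ((Scheme.Modules.Hom.app_smul (y n) r b).trans (congrArg (r • ·) (ht b n).symm)).trans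
          (Scheme.Modules.Hom.app_smul (ClSub.toSubscheme (J ^ (n + 1))) r (t b)).symm }
  let ι := {f : Γ(X, ⊤) // Good p (X.basicOpen f)}
  have hea : ∀ i : ι, ∃ a : B p (X.basicOpen i.1), ∀ b : B p ⊤,
      Algebra.trace Γ(X, X.basicOpen i.1) (B p (X.basicOpen i.1)) (a * resY p le_top b) = resX le_top (L b) := fun i => by
    obtain ⟨l, hl⟩ := exists_extend p i.1 L
    obtain ⟨a, ha⟩ := i.2.exists_trace_eq p l
    exact ⟨a, fun b => (ha _).trans (hl b)⟩
  choose a ha using hea
  have hres : ∀ (i : ι) (k : ι) (hk : X.basicOpen k.1 ≤ X.basicOpen i.1),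
      resY p hk (a i) = a k := fun i k hk => by
    refine (k.2.bijective_traceForm p).1 (ext_top p fun b => ?_)
    have hr : X.basicOpen k.1 = X.basicOpen (resX (le_top : X.basicOpen i.1 ≤ ⊤) k.1) := by
      rw [Scheme.basicOpen_res]
      exact (inf_eq_right.mpr hk).symm
    rw [Algebra.traceForm_apply, Algebra.traceForm_apply, ha k b,
      ← resY_resY p (le_top : X.basicOpen i.1 ≤ ⊤) hk, ← map_mul, ← trace_res p hk _ hr i.2, ha i b]
    exact res_res (Coh.structureModule X) (le_top : X.basicOpen i.1 ≤ ⊤) hk (L b)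
  obtain ⟨A, hA, -⟩ := TopCat.Sheaf.existsUnique_gluing' (⟨(push p).presheaf, (push p).isSheaf⟩ : TopCat.Sheaf Ab _)
    (fun i : ι => X.basicOpen i.1) ⊤ (fun i => homOfLE le_top) (fun x hx => by
      obtain ⟨f, hxf, -, hD⟩ := exists_good_basic p (U := ⊤) (x := x) hx
      exact Opens.mem_iSup.2 ⟨⟨f, hD⟩, hxf⟩)
    (fun i => a i) (fun i j => by
      refine eq_of_locally (push p) _ _ fun x hx => ?_
      obtain ⟨f, hxf, hle, hD⟩ := exists_good_basic p (U := X.basicOpen i.1 ⊓ X.basicOpen j.1) hx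
      refine ⟨X.basicOpen f, hle, hxf, ?_⟩
      change (push p).presheaf.map (homOfLE hle).op ((push p).presheaf.map (homOfLE inf_le_left).op _) =
        (push p).presheaf.map (homOfLE hle).op ((push p).presheaf.map (homOfLE inf_le_right).op _)
      rw [res_res, res_res]
      exact (hres i ⟨f, hD⟩ (hle.trans inf_le_left)).trans (hres j ⟨f, hD⟩ (hle.trans inf_le_right)).symm)
  let A' : B p ⊤ := A
  have hA' : ∀ i : ι, resY p le_top A' = a i := hA
  obtain ⟨φ, hφ⟩ := exists_hom p (N := Coh.structureModule X)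
    (fun V _ => traceMod p (𝟙 _) (resY p le_top A')) fun V hV W hW r hW' hr b => by
      rw [traceMod_res p _ hV r hW' hr, resY_resY]
  refine ⟨φ, fun n => hom_ext_global p fun b => ?_⟩
  refine eq_of_locally _ _ _ fun x hx => ?_
  obtain ⟨f, hxf, hle, hD⟩ := exists_good_basic p hx
  refine ⟨X.basicOpen f, hle, hxf, ?_⟩
  rw [app_res p (φ ≫ ClSub.toSubscheme (J ^ (n + 1))), app_res p (y n)]
  change (ClSub.toSubscheme (J ^ (n + 1))).app _ (φ.app _ (resY p _ b)) = _
  rw [hφ _ hD, ← app_res p (y n), ← ht b n]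
  refine Eq.trans ?_ (NatTrans.naturality_apply (ClSub.toSubscheme (J ^ (n + 1))).mapPresheaf (homOfLE hle).op (t b))
  refine congrArg ((ClSub.toSubscheme (J ^ (n + 1))).app (X.basicOpen f)) ?_
  change Algebra.trace _ _ (resY p _ A' * resY p _ b) = resX _ (L b)
  rw [hA' ⟨f, hD⟩]
  exact ha ⟨f, hD⟩ b

end Groth.Agent.FEtCat.Lef.QuasiAffine
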