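import Groth.Agent.LFFrame.Basic
import Groth.Agent.TraceEtale.Basic
import Groth.Agent.Props.QProj
import Groth.Agent.QCoh.Qcqs
import Groth.Agent.AssSch.Structure

/-!
# The trace of a finite etale cover on small affine opens
-/

set_option autoImplicit false
set_option backward.isDefEq.respectTransparency false
set_option backward.isDefEq.respectTransparency.types false

universe u v

open CategoryTheory CategoryTheory.Limits AlgebraicGeometry Opposite TopologicalSpace

noncomputable section

namespace Groth.Agent.FEtCat.Lef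

variable {X Y : Scheme.{u}} (p : Y ⟶ X)

/-- Sections of the cover over the preimage of an open. -/
abbrev B (V : X.Opens) : Type u := Γ(Y, p ⁻¹ᵁ V)

instance secAlgebra (V : X.Opens) : Algebra Γ(X, V) (B p V) := (p.app V).hom.toAlgebra

/-- Restriction of functions. -/
abbrev resX {V W : X.Opens} (h : W ≤ V) : Γ(X, V) →+* Γ(X, W) := (X.presheaf.map (homOfLE h).op).hom

/-- Restriction of sections of the cover. -/
abbrev resY {V W : X.Opens} (h : W ≤ V) : B p V →+* B p W :=
  (Y.presheaf.map (homOfLE (show p ⁻¹ᵁ W ≤ p ⁻¹ᵁ V from p.preimage_mono h)).op).hom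

theorem resY_algebraMap {V W : X.Opens} (h : W ≤ V) (r : Γ(X, V)) :
    resY p h (algebraMap Γ(X, V) (B p V) r) = algebraMap Γ(X, W) (B p W) (resX h r) :=
  (CategoryTheory.congr_fun (p.naturality (homOfLE h).op) r).symm

theorem resY_smul {V W : X.Opens} (h : W ≤ V) (r : Γ(X, V)) (b : B p V) :
    resY p h (r • b) = resX h r • resY p h b := by
  rw [Algebra.smul_def, Algebra.smul_def, map_mul, resY_algebraMap]

/-- The direct image of the structure sheaf. -/
abbrev push : X.Modules := (Scheme.Modules.pushforward p).obj (Coh.structureModule Y)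

/-- An affine open over which the cover is free. -/
structure Good (V : X.Opens) : Prop where
  affine : IsAffineOpen V
  free : Module.Free Γ(X, V) (B p V)

section
variable [IsFinite p]

theorem Good.finite {V : X.Opens} (hV : Good p V) : Module.Finite Γ(X, V) (B p V) :=
  RingHom.finite_algebraMap.mp (IsFinite.finite_app p V hV.affine)

variable [Etale p]

theorem Good.unramified {V : X.Opens} (hV : Good p V) : Algebra.FormallyUnramified Γ(X, V) (B p V) := by
  have h := HasRingHomProperty.appLE (P := @Etale) p inferInstance ⟨V, hV.affine⟩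
    ⟨p ⁻¹ᵁ V, hV.affine.preimage p⟩ le_rfl
  rw [← Scheme.Hom.app_eq_appLE] at h
  have : Algebra.Etale Γ(X, V) (B p V) := RingHom.etale_algebraMap.mp h
  infer_instance

theorem isFinLocFree_push : FlatMod.IsFinLocFree (push p) := by
  have : (push p).IsQuasicoherent := QCoh.isQuasicoherent_pushforward p (Coh.structureModule Y)
  have hfp : ∀ {W : X.Opens}, IsAffineOpen W → Module.FinitePresentation Γ(X, W) Γ(push p, W) ∧
      Module.Projective Γ(X, W) Γ(push p, W) := by
    intro W hW
    have h1 : Module.Finite Γ(X, W) (B p W) := RingHom.finite_algebraMap.mp (IsFinite.finite_app p W hW)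
    have h2 : Module.Flat Γ(X, W) (B p W) := RingHom.flat_algebraMap_iff.mp (by
      have := p.flat_appLE hW (hW.preimage p) le_rfl
      rwa [← Scheme.Hom.app_eq_appLE] at this)
    have h3 : Algebra.FinitePresentation Γ(X, W) (B p W) := RingHom.finitePresentation_algebraMap.mp (by
      have := HasRingHomProperty.appLE (P := @LocallyOfFinitePresentation) p inferInstance ⟨W, hW⟩
        ⟨p ⁻¹ᵁ W, hW.preimage p⟩ le_rfl
      rwa [← Scheme.Hom.app_eq_appLE] at this)
    have h4 : Module.FinitePresentation Γ(X, W) (B p W) := .of_finite_of_finitePresentation _ _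
    have h5 : Module.Projective Γ(X, W) (B p W) := Module.Flat.projective_of_finitePresentation
    exact ⟨h4, h5⟩
  refine Props.QProj.isFinLocFree_of (push p) (fun x => ?_) fun x => ?_
  all_goals obtain ⟨_, ⟨W, hW, rfl⟩, hx, -⟩ :=
    X.isBasis_affineOpens.exists_subset_of_mem_open (Set.mem_univ x) isOpen_univ
  · exact ⟨W, hW, hx, (hfp hW).1⟩
  · obtain ⟨_, _⟩ := hfp hW
    exact Props.QProj.free_stalk_of_flat (push p) hW hx

theorem exists_good {U : X.Opens} {x : X} (hx : x ∈ U) : ∃ V : X.Opens, x ∈ V ∧ V ≤ U ∧ Good p V := by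
  obtain ⟨U', n, e, hxU', he⟩ := LFFrame.exists_isFrame_of_isFinLocFree (isFinLocFree_push p) x
  obtain ⟨_, ⟨V, hV, rfl⟩, hxV, hVU⟩ :=
    X.isBasis_affineOpens.exists_subset_of_mem_open (show x ∈ U ⊓ U' from ⟨hx, hxU'⟩) (U ⊓ U').2
  have hVU' : V ≤ U' := fun y hy => (hVU hy).2
  refine ⟨V, hxV, fun y hy => (hVU hy).1, hV, ?_⟩
  let L : (Fin n → Γ(X, V)) →ₗ[Γ(X, V)] B p V :=
    Fintype.linearCombination Γ(X, V) (fun i => (push p).presheaf.map (homOfLE hVU').op (e i))
  have hL : Function.Bijective L := by
    have heq : ∀ a, L a = LFFrame.comb (push p) e hVU' a := fun a => by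
      rw [Fintype.linearCombination_apply]
      rfl
    exact (funext heq : ⇑L = LFFrame.comb (push p) e hVU') ▸ he V hVU'
  exact Module.Free.of_basis (Module.Basis.ofEquivFun (LinearEquiv.ofBijective L hL).symm)

end

section Loc

variable [IsAffineHom p] {V W : X.Opens} (hV : IsAffineOpen V) (h : W ≤ V) (r : Γ(X, V)) (e : W = X.basicOpen r)
include hV e

theorem isLocalization_resX : letI := (resX h).toAlgebra; IsLocalization.Away r Γ(X, W) :=
  hV.isLocalization_of_eq_basicOpen r (homOfLE h) e

theorem isLocalization_resY :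
    letI := (resY p h).toAlgebra; IsLocalization.Away (algebraMap Γ(X, V) (B p V) r) (B p W) :=
  (hV.preimage p).isLocalization_of_eq_basicOpen _ (homOfLE (p.preimage_mono h))
    (by rw [e]; exact Scheme.preimage_basicOpen p r)

/-- Linear maps out of the sections over a basic open are determined on restrictions. -/
theorem ext_loc {N : Type v} [AddCommGroup N] [Module Γ(X, W) N] {f g : B p W →ₗ[Γ(X, W)] N}
    (hfg : ∀ b, f (resY p h b) = g (resY p h b)) : f = g := by
  refine LinearMap.ext fun c => ?_
  let := (resY p h).toAlgebra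
  have := isLocalization_resY p hV h r e
  obtain ⟨k, b, hb⟩ := IsLocalization.Away.surj (algebraMap Γ(X, V) (B p V) r) c
  have hu : IsUnit (resX h r ^ k) := by
    let := (resX h).toAlgebra
    have := isLocalization_resX hV h r e
    exact (IsLocalization.Away.algebraMap_isUnit r).pow k
  change c * resY p h _ ^ k = resY p h b at hb
  rw [resY_algebraMap, ← map_pow, mul_comm, ← Algebra.smul_def] at hb
  have := hfg b
  rw [← hb, map_smul, map_smul] at this
  exact hu.smul_left_cancel.mp this

variable [IsFinite p] (hg : Good p V)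
include hg h

omit hV in
theorem Good.basicOpen : Good p W := by
  have := hg.free
  refine ⟨e ▸ hg.affine.basicOpen r, ?_⟩
  let := (resX h).toAlgebra
  let := (resY p h).toAlgebra
  let := ((resY p h).comp (algebraMap Γ(X, V) (B p V))).toAlgebra
  have : IsScalarTower Γ(X, V) (B p V) (B p W) := .of_algebraMap_eq' rfl
  have : IsScalarTower Γ(X, V) Γ(X, W) (B p W) := .of_algebraMap_eq fun r => resY_algebraMap p h r
  have := isLocalization_resX hg.affine h r e
  have hl := isLocalization_resY p hg.affine h r e
  have : IsLocalization (Algebra.algebraMapSubmonoid (B p V) (Submonoid.powers r)) (B p W) := by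
    rw [Algebra.algebraMapSubmonoid, Submonoid.map_powers]
    exact hl
  exact Module.Free.of_basis ((Module.Free.chooseBasis Γ(X, V) (B p V)).localizationLocalization
    Γ(X, W) (Submonoid.powers r) (B p W))

omit hV in
theorem trace_res (b : B p V) :
    resX h (Algebra.trace Γ(X, V) (B p V) b) = Algebra.trace Γ(X, W) (B p W) (resY p h b) := by
  have := hg.free
  have := hg.finite
  let := (resX h).toAlgebra
  let := (resY p h).toAlgebra
  let := ((resY p h).comp (algebraMap Γ(X, V) (B p V))).toAlgebra
  have : IsScalarTower Γ(X, V) (B p V) (B p W) := .of_algebraMap_eq' rfl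
  have : IsScalarTower Γ(X, V) Γ(X, W) (B p W) := .of_algebraMap_eq fun r => resY_algebraMap p h r
  have := isLocalization_resX hg.affine h r e
  have hl := isLocalization_resY p hg.affine h r e
  have : IsLocalization (Algebra.algebraMapSubmonoid (B p V) (Submonoid.powers r)) (B p W) := by
    rw [Algebra.algebraMapSubmonoid, Submonoid.map_powers]
    exact hl
  exact (Algebra.trace_localization Γ(X, V) (Submonoid.powers r) (Rₘ := Γ(X, W)) b).symm

end Loc

section Dual

variable [IsFinite p] [Etale p] {V : X.Opens} (hV : Good p V)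
include hV

theorem Good.bijective_traceForm : Function.Bijective (Algebra.traceForm Γ(X, V) (B p V)) := by
  have := hV.free
  have := hV.finite
  have := hV.unramified
  exact TraceEtale.Basic.bijective_traceForm _ _

theorem Good.eq_zero_of_trace {a : B p V} (h : ∀ b, Algebra.trace Γ(X, V) (B p V) (a * b) = 0) : a = 0 :=
  (hV.bijective_traceForm).1 (LinearMap.ext fun b => by simpa [Algebra.traceForm_apply] using h b)

theorem Good.exists_trace_eq (L : B p V →ₗ[Γ(X, V)] Γ(X, V)) :
    ∃ a, ∀ b, Algebra.trace Γ(X, V) (B p V) (a * b) = L b := by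
  obtain ⟨a, ha⟩ := (hV.bijective_traceForm).2 L
  exact ⟨a, fun b => (Algebra.traceForm_apply (R := Γ(X, V)) a b).symm.trans (LinearMap.congr_fun ha b)⟩

theorem Good.mem_map_of_trace {I : Ideal Γ(X, V)} {a : B p V}
    (h : ∀ b, Algebra.trace Γ(X, V) (B p V) (a * b) ∈ I) : a ∈ I.map (algebraMap Γ(X, V) (B p V)) := by
  classical
  have := hV.free
  have := hV.finite
  let e := Module.Free.chooseBasis Γ(X, V) (B p V)
  choose c hc using fun i => hV.exists_trace_eq p (e.coord i)
  have ha : a = ∑ i, Algebra.trace Γ(X, V) (B p V) (a * e i) • c i := by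
    refine (hV.bijective_traceForm).1 (e.ext fun j => ?_)
    simp only [map_sum, map_smul, LinearMap.sum_apply, LinearMap.smul_apply, Algebra.traceForm_apply, hc,
      Module.Basis.coord_apply, Module.Basis.repr_self, Finsupp.single_apply, smul_eq_mul, mul_ite, mul_one,
      mul_zero]
    rw [Finset.sum_ite_eq, if_pos (Finset.mem_univ _)]
  rw [ha]
  refine Ideal.sum_mem _ fun i _ => ?_
  rw [Algebra.smul_def]
  exact Ideal.mul_mem_right _ _ (Ideal.mem_map_of_mem _ (h _))

omit hV in
theorem trace_mem_of_mem_map {I : Ideal Γ(X, V)} {a : B p V}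
    (ha : a ∈ I.map (algebraMap Γ(X, V) (B p V))) (b : B p V) :
    Algebra.trace Γ(X, V) (B p V) (a * b) ∈ I := by
  induction ha using Submodule.span_induction generalizing b with
  | mem x hx =>
    obtain ⟨i, hi, rfl⟩ := hx
    rw [← Algebra.smul_def, map_smul, smul_eq_mul]
    exact I.mul_mem_right _ hi
  | zero => simp
  | add x y _ _ hx hy => rw [add_mul, map_add]; exact I.add_mem (hx b) (hy b)
  | smul c x _ hx => rw [smul_eq_mul, mul_comm c x, mul_assoc]; exact hx _

end Dual

end Groth.Agent.FEtCat.Lef
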